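import Cfsg.Agent.BpLin.Quot
import Cfsg.Agent.LieClassical.SLGen
import Cfsg.Agent.S0242
import Cfsg.Agent.LieClassical.Order72
import Cfsg.Agent.S0283
import Cfsg.Agent.S0282
import Cfsg.Agent.Phan.SU2Model
import Cfsg.Prelude.Def_LieClassical
import Mathlib.RingTheory.SimpleModule.WedderburnArtin
import Cfsg.Agent.ClassicalGeometry.HermOrthonormal
import Cfsg.Agent.ClassicalGeometry.GUBasic
import Mathlib.LinearAlgebra.GeneralLinearGroup.AlgEquiv
import Mathlib.RingTheory.SimpleRing.Matrix
import Mathlib.RingTheory.LittleWedderburn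

-- merged: Cfsg.Agent.BpLin.GoodGL
section

/-!
# `Good p` for the linear and unitary groups over finite fields

* `good_psl`, `good_sl`, `good_gl`; `good_psu`, `good_su`, `good_gu` : all dimensions, all finite fields, all `p`.
-/

set_option autoImplicit false
set_option linter.unusedSectionVars false

namespace Cfsg.Agent.BpLin

open Subgroup Cfsg Cfsg.Agent.Lib Cfsg.Agent.BpTab
open scoped commutatorElement MatrixGroups Matrix

variable {p : ℕ} [hp : Fact p.Prime]

/-- A homomorphism to a commutative group with good kernel. -/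
theorem good_of_hom_comm {G A : Type*} [Group G] [Finite G] [CommGroup A] (f : G →* A) (h : Good p ↥f.ker) :
    Good p G := by
  refine Good.of_solvable_quotient (N := f.ker) h ?_
  have e := QuotientGroup.quotientKerEquivRange f
  have : Group.IsSolvable ↥f.range := inferInstance
  exact Group.isSolvable_of_isSolvable_injective (f := e.toMonoidHom) e.injective

/-- An injective homomorphism whose range is the kernel of a homomorphism to a commutative group. -/
theorem good_of_kernel {G A H : Type*} [Group G] [Finite G] [CommGroup A] [Group H] [Finite H] (f : G →* A)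
    (g : H →* G) (hg : Function.Injective g) (hr : g.range = f.ker) (h : Good p H) : Good p G := by
  apply good_of_hom_comm f
  rw [← hr]
  exact h.congr (MonoidHom.ofInjective hg)

section Linear

variable {F : Type*} [Field F] [Finite F]

instance {n : ℕ} : Finite (Matrix.SpecialLinearGroup (Fin n) F) := Subtype.finite

theorem isSolvable_sl_two (h : ¬ 4 ≤ Nat.card F) : Group.IsSolvable (Matrix.SpecialLinearGroup (Fin 2) F) := by
  have := Fintype.ofFinite F
  apply LieClassical.Order72.isSolvable_of_card_dvd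
  have h1 := S0242.result (F := F) rfl 2 (by norm_num)
  have h2 := Fintype.one_lt_card (α := F)
  rw [Nat.card_eq_fintype_card] at h
  rw [Fin.prod_univ_two] at h1
  have h3 : Fintype.card F = 2 ∨ Fintype.card F = 3 := by omega
  rcases h3 with h3 | h3 <;> rw [h3] at h1
  · have h4 : Nat.card (Matrix.SpecialLinearGroup (Fin 2) F) = 6 := by norm_num at h1; exact h1
    rw [h4]; norm_num
  · have h4 : Nat.card (Matrix.SpecialLinearGroup (Fin 2) F) = 24 := by norm_num at h1; omega
    rw [h4]; norm_num

theorem good_sl (n : ℕ) : Good p (Matrix.SpecialLinearGroup (Fin n) F) := by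
  rcases Nat.lt_or_ge n 2 with hn | hn
  · apply good_of_solvable
    have : Subsingleton (Fin n) := by
      have : n = 0 ∨ n = 1 := by omega
      rcases this with rfl | rfl <;> infer_instance
    have : Subsingleton (Matrix.SpecialLinearGroup (Fin n) F) := inferInstance
    infer_instance
  · rcases Nat.eq_or_lt_of_le hn with rfl | hn
    · by_cases h : 4 ≤ Nat.card F
      · have hs : IsSimpleGroup (Matrix.ProjectiveSpecialLinearGroup (Fin 2) F) :=
          Matrix.ProjectiveSpecialLinearGroup.rank_two_simple h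
        exact (good_of_simple hs).of_central le_rfl
      · exact good_of_solvable (isSolvable_sl_two h)
    · have hs : IsSimpleGroup (Matrix.ProjectiveSpecialLinearGroup (Fin n) F) :=
        LieClassical.SLGen.psl_isSimpleGroup (by rw [Fintype.card_fin]; exact hn)
      exact (good_of_simple hs).of_central le_rfl

theorem good_psl (n : ℕ) : Good p (Matrix.ProjectiveSpecialLinearGroup (Fin n) F) :=
  good_quotient (good_sl n) le_rfl

theorem range_toGL (n : ℕ) : (Matrix.SpecialLinearGroup.toGL (n := Fin n) (R := F)).range =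
    (Matrix.GeneralLinearGroup.det (n := Fin n) (R := F)).ker := by
  ext A
  constructor
  · rintro ⟨g, rfl⟩
    rw [MonoidHom.mem_ker]
    apply Units.ext
    exact g.2
  · intro h
    rw [MonoidHom.mem_ker] at h
    refine ⟨⟨(A : Matrix (Fin n) (Fin n) F), congrArg Units.val h⟩, ?_⟩
    apply Units.ext
    rfl

theorem good_gl (n : ℕ) : Good p (GL (Fin n) F) := by
  have : Finite (GL (Fin n) F) := inferInstance
  refine good_of_kernel (Matrix.GeneralLinearGroup.det (n := Fin n) (R := F))
    (Matrix.SpecialLinearGroup.toGL (n := Fin n) (R := F)) ?_ (range_toGL n) (good_sl n)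
  exact Matrix.SpecialLinearGroup.toGL_injective

end Linear

section Unitary

variable {F : Type*} [Field F] [Fintype F] {q : ℕ}

theorem good_su (hF : Fintype.card F = q ^ 2) (n : ℕ) : Good p ↥(SU n F q) := by
  rcases Nat.lt_or_ge n 2 with hn | hn
  · apply good_of_solvable
    have : Subsingleton (Fin n) := by
      have : n = 0 ∨ n = 1 := by omega
      rcases this with rfl | rfl <;> infer_instance
    have : Subsingleton (Matrix.SpecialLinearGroup (Fin n) F) := inferInstance
    have : Subsingleton ↥(SU n F q) := inferInstance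
    infer_instance
  · rcases Nat.eq_or_lt_of_le hn with rfl | hn
    · obtain ⟨_, _, _, _, θ, -⟩ := Phan.exists_model hF
      exact (good_sl (F := Phan.fixedField hF) 2).congr θ
    · by_cases h : n = 3 ∧ q = 2
      · obtain ⟨rfl, rfl⟩ := h
        have h1 := (S0282.result (F := F) hF).2
        exact (good_of_solvable h1).of_central le_rfl
      · have h1 := S0283.result hF n hn h
        exact (good_of_simple h1).of_central le_rfl

theorem good_psu (hF : Fintype.card F = q ^ 2) (n : ℕ) : Good p (PSU n F q) :=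
  good_quotient (good_su hF n) le_rfl

/-- `SU` as a subgroup of `GU`. -/
def suToGU (n : ℕ) (F : Type*) [Field F] (q : ℕ) : ↥(SU n F q) →* ↥(GU n F q) :=
  ((Matrix.SpecialLinearGroup.toGL (n := Fin n) (R := F)).comp (SU n F q).subtype).codRestrict (GU n F q)
    (fun g => g.2)

theorem coe_suToGU (n : ℕ) (F : Type*) [Field F] (q : ℕ) (g : ↥(SU n F q)) :
    ((suToGU n F q g : GL (Fin n) F) : Matrix (Fin n) (Fin n) F) = (g : Matrix.SpecialLinearGroup (Fin n) F) := rfl

theorem good_gu (hF : Fintype.card F = q ^ 2) (n : ℕ) : Good p ↥(GU n F q) := by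
  refine good_of_kernel ((Matrix.GeneralLinearGroup.det (n := Fin n) (R := F)).comp (GU n F q).subtype)
    (suToGU n F q) ?_ ?_ (good_su hF n)
  · intro a b hab
    apply Subtype.ext
    apply Subtype.ext
    rw [← coe_suToGU, ← coe_suToGU, hab]
  · ext A
    constructor
    · rintro ⟨g, rfl⟩
      rw [MonoidHom.mem_ker]
      apply Units.ext
      change Matrix.det ((suToGU n F q g : GL (Fin n) F) : Matrix (Fin n) (Fin n) F) = 1
      rw [coe_suToGU]
      exact g.1.2
    · intro h
      rw [MonoidHom.mem_ker] at h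
      have h1 : Matrix.det ((A : GL (Fin n) F) : Matrix (Fin n) (Fin n) F) = 1 := congrArg Units.val h
      refine ⟨⟨⟨((A : GL (Fin n) F) : Matrix (Fin n) (Fin n) F), h1⟩, ?_⟩, ?_⟩
      · exact A.2
      · apply Subtype.ext
        apply Units.ext
        rw [coe_suToGU]

end Unitary

end Cfsg.Agent.BpLin

end

-- merged: Cfsg.Agent.BpLin.Inv
section

/-!
# Rings with involution: the unitary group of a finite product of simple rings

* `RInv E` : an involution (anti-automorphism of order two) of the ring `E`; `U s` its unitary group;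
* `good_unitary_pi` : for a finite product of simple rings, `U s` is good if the groups of units of the factors and the
  unitary groups of the `s`-invariant factors are good.
-/

set_option autoImplicit false
set_option linter.unusedSectionVars false

namespace Cfsg.Agent.BpLin

open Subgroup Cfsg Cfsg.Agent.Lib Cfsg.Agent.BpTab

/-- An involution of the ring `E`. -/
structure RInv (E : Type*) [Ring E] where
  toFun : E → E
  map_add' : ∀ a b, toFun (a + b) = toFun a + toFun b
  map_mul' : ∀ a b, toFun (a * b) = toFun b * toFun a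
  invol' : ∀ a, toFun (toFun a) = a

namespace RInv

variable {E : Type*} [Ring E]

instance : CoeFun (RInv E) fun _ => E → E := ⟨RInv.toFun⟩

variable (s : RInv E)

theorem add (a b : E) : s (a + b) = s a + s b := s.map_add' a b
theorem mul (a b : E) : s (a * b) = s b * s a := s.map_mul' a b
theorem inv (a : E) : s (s a) = a := s.invol' a

theorem one : s 1 = 1 := by
  have h1 : s (s 1 * 1) = s 1 * s (s 1) := s.mul _ _
  rw [mul_one, s.inv, mul_one] at h1
  exact h1.symm

theorem zero : s 0 = 0 := by
  have h1 := s.add 0 0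
  rw [add_zero] at h1
  exact left_eq_add.mp h1

theorem injective : Function.Injective s := fun a b h => by rw [← s.inv a, h, s.inv]

theorem eq_zero_iff {a : E} : s a = 0 ↔ a = 0 := by
  constructor
  · intro h
    apply s.injective
    rw [h, s.zero]
  · rintro rfl
    exact s.zero

theorem mem_center {a : E} (ha : a ∈ Subring.center E) : s a ∈ Subring.center E := by
  rw [Subring.mem_center_iff] at ha ⊢
  intro g
  have h1 := congrArg s (ha (s g))
  rw [s.mul, s.mul, s.inv] at h1
  exact h1.symm

/-- The unitary group of a ring with involution. -/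
def U : Subgroup Eˣ where
  carrier := {u | (u : E) * s u = 1}
  mul_mem' := by
    intro a b ha hb
    have ha' : (a : E) * s a = 1 := ha
    have hb' : (b : E) * s b = 1 := hb
    change ((a * b : Eˣ) : E) * s ((a * b : Eˣ) : E) = 1
    rw [Units.val_mul, s.mul, mul_assoc, ← mul_assoc (b : E), hb', one_mul, ha']
  one_mem' := by
    change ((1 : Eˣ) : E) * s ((1 : Eˣ) : E) = 1
    rw [Units.val_one, s.one, mul_one]
  inv_mem' := by
    intro a ha
    have ha' : (a : E) * s a = 1 := ha
    change ((a⁻¹ : Eˣ) : E) * s ((a⁻¹ : Eˣ) : E) = 1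
    have h1 : s (a : E) = ((a⁻¹ : Eˣ) : E) := by
      rw [← Units.mul_right_inj a, ha', Units.mul_inv]
    rw [← h1, s.inv, h1, Units.inv_mul]

theorem mem_U {u : Eˣ} : u ∈ s.U ↔ (u : E) * s u = 1 := Iff.rfl

theorem mem_U' {u : Eˣ} : u ∈ s.U ↔ s u = ((u⁻¹ : Eˣ) : E) := by
  rw [mem_U]
  constructor
  · intro h
    rw [← Units.mul_right_inj u, h, Units.mul_inv]
  · intro h
    rw [h, Units.mul_inv]

/-- Transport of an involution. -/
def congr {E' : Type*} [Ring E'] (e : E ≃+* E') : RInv E' where
  toFun a := e (s (e.symm a))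
  map_add' a b := by rw [map_add, s.add, map_add]
  map_mul' a b := by rw [map_mul, s.mul, map_mul]
  invol' a := by rw [e.symm_apply_apply, s.inv, e.apply_symm_apply]

/-- The unitary group of the transported involution. -/
noncomputable def congrU {E' : Type*} [Ring E'] (e : E ≃+* E') : ↥s.U ≃* ↥(s.congr e).U :=
  ((Units.mapEquiv e.toMulEquiv).subgroupMap s.U).trans (MulEquiv.subgroupCongr (by
    ext u
    constructor
    · rintro ⟨v, hv, rfl⟩
      have h1 : (v : E) * s v = 1 := hv
      change e (v : E) * e (s (e.symm (e (v : E)))) = 1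
      rw [e.symm_apply_apply, ← map_mul, h1, map_one]
    · intro hu
      have h1 : (u : E') * e (s (e.symm (u : E'))) = 1 := hu
      refine ⟨(Units.mapEquiv e.toMulEquiv).symm u, ?_, (Units.mapEquiv e.toMulEquiv).apply_symm_apply u⟩
      change e.symm (u : E') * s (e.symm (u : E')) = 1
      apply e.injective
      rw [map_mul, e.apply_symm_apply, h1, map_one]))

end RInv

section Pi

variable {ι : Type*} [Fintype ι] [DecidableEq ι] {R : ι → Type*} [∀ i, Ring (R i)] [∀ i, IsSimpleRing (R i)]

omit [Fintype ι] in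
/-- A central idempotent of a product of simple rings has coordinates `0`, `1`. -/
theorem central_idem {c : ∀ i, R i} (hc : c ∈ Subring.center (∀ i, R i)) (hc2 : c * c = c) (i : ι) :
    c i = 0 ∨ c i = 1 := by
  have h1 : c i ∈ Subring.center (R i) := by
    rw [Subring.mem_center_iff] at hc ⊢
    intro g
    have h2 := congrFun (hc (Pi.single i g)) i
    simpa using h2
  have h2 : c i * c i = c i := congrFun hc2 i
  have hF := IsSimpleRing.isField_center (R i)
  by_cases h0 : c i = 0
  · exact Or.inl h0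
  · right
    have h3 : (⟨c i, h1⟩ : Subring.center (R i)) ≠ 0 := fun h => h0 (congrArg Subtype.val h)
    obtain ⟨b, hb⟩ := hF.mul_inv_cancel h3
    have hb' : c i * (b : R i) = 1 := congrArg Subtype.val hb
    calc c i = c i * (c i * b) := by rw [hb', mul_one]
      _ = c i * b := by rw [← mul_assoc, h2]
      _ = 1 := hb'

omit [Fintype ι] [∀ i, IsSimpleRing (R i)] in
theorem single_mem_center (i : ι) : (Pi.single i 1 : ∀ i, R i) ∈ Subring.center (∀ i, R i) := by
  rw [Subring.mem_center_iff]
  intro g
  funext j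
  by_cases h : j = i
  · subst h; simp
  · simp [Pi.single_eq_of_ne h]

variable (s : RInv (∀ i, R i))

omit [Fintype ι] in
/-- The involution permutes the factors. -/
theorem exists_tau (i : ι) : ∃ j, s (Pi.single i 1) = Pi.single j 1 := by
  have hcen : ∀ k, s (Pi.single k 1) ∈ Subring.center (∀ i, R i) := fun k => s.mem_center (single_mem_center k)
  have hid : ∀ k, s (Pi.single k 1) * s (Pi.single k 1) = s (Pi.single k 1) := by
    intro k
    rw [← s.mul, ← Pi.single_mul, mul_one]
  have hne : ∀ k, s (Pi.single k 1) ≠ 0 := by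
    intro k h
    rw [s.eq_zero_iff] at h
    have := congrFun h k
    rw [Pi.single_eq_same] at this
    exact one_ne_zero this
  have hex : ∃ j, s (Pi.single i 1) j ≠ 0 := by
    by_contra h
    push Not at h
    exact hne i (funext h)
  obtain ⟨j, hj⟩ := hex
  have hj1 : s (Pi.single i 1) j = 1 := (central_idem (hcen i) (hid i) j).resolve_left hj
  refine ⟨j, ?_⟩
  -- `ε_j = c ε_j`
  have h1 : s (Pi.single i 1) * Pi.single j 1 = Pi.single j 1 := by
    funext k
    by_cases h : k = j
    · subst h; simp [hj1]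
    · simp [Pi.single_eq_of_ne h]
  have h2 : s (Pi.single j 1) * Pi.single i 1 = s (Pi.single j 1) := by
    have := congrArg s h1
    rwa [s.mul, s.inv] at this
  have h3 : ∀ k, k ≠ i → s (Pi.single j 1) k = 0 := by
    intro k hk
    have := congrFun h2 k
    rw [Pi.mul_apply, Pi.single_eq_of_ne hk, mul_zero] at this
    exact this.symm
  have h4 : s (Pi.single j 1) i = 1 := by
    refine (central_idem (hcen j) (hid j) i).resolve_left fun h => hne j ?_
    funext k
    by_cases hk : k = i
    · subst hk; exact h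
    · exact h3 k hk
  have h5 : s (Pi.single j 1) = Pi.single i 1 := by
    funext k
    by_cases hk : k = i
    · subst hk; rw [h4, Pi.single_eq_same]
    · rw [h3 k hk, Pi.single_eq_of_ne hk]
  rw [← h5, s.inv]

omit [Fintype ι] [∀ i, IsSimpleRing (R i)] in
/-- `s` on an invariant factor: `s (single i m)` is supported on `i`. -/
theorem single_of_fix {i : ι} (hi : s (Pi.single i 1) = Pi.single i 1) (m : R i) :
    s (Pi.single i m) = Pi.single i (s (Pi.single i m) i) := by
  have h1 : s (Pi.single i m) = s (Pi.single i m) * Pi.single i 1 := by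
    conv_lhs => rw [← one_mul m, Pi.single_mul, s.mul, hi]
  funext k
  by_cases hk : k = i
  · subst hk; rw [Pi.single_eq_same]
  · rw [Pi.single_eq_of_ne hk, h1, Pi.mul_apply, Pi.single_eq_of_ne hk, mul_zero]

omit [Fintype ι] [∀ i, IsSimpleRing (R i)] in
/-- coordinate `i` of `s x` depends only on coordinate `i` of `x` -/
theorem apply_of_fix {i : ι} (hi : s (Pi.single i 1) = Pi.single i 1) (x : ∀ i, R i) :
    s x i = s (Pi.single i (x i)) i := by
  have h1 : x * Pi.single i 1 = Pi.single i (x i) := by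
    funext k
    by_cases hk : k = i
    · subst hk; simp
    · simp [Pi.single_eq_of_ne hk]
  have h2 : s (Pi.single i (x i)) i = ((Pi.single i 1 : ∀ i, R i) * s x) i := by rw [← h1, s.mul, hi]
  rw [h2, Pi.mul_apply, Pi.single_eq_same, one_mul]

omit [Fintype ι] [∀ i, IsSimpleRing (R i)] in
/-- The involution of an invariant factor. -/
def RInv.factor (i : ι) (hi : s (Pi.single i 1) = Pi.single i 1) : RInv (R i) where
  toFun m := s (Pi.single i m) i
  map_add' a b := by rw [Pi.single_add, s.add]; rfl
  map_mul' a b := by rw [Pi.single_mul, s.mul]; rfl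
  invol' a := by
    rw [← single_of_fix s hi, s.inv, Pi.single_eq_same]

/-- the support of `s (single i m)` -/
theorem single_supp {i j : ι} (hj : s (Pi.single i 1) = Pi.single j 1) (m : R i) {k : ι} (hk : k ≠ j) :
    s (Pi.single i m) k = 0 := by
  have h1 : s (Pi.single i m) = s (Pi.single i m) * Pi.single j 1 := by
    conv_lhs => rw [← one_mul m, Pi.single_mul, s.mul, hj]
  rw [h1, Pi.mul_apply, Pi.single_eq_of_ne hk, mul_zero]

/-- a unitary element from its inverse on the right -/
theorem exists_mem_U {E : Type*} [Ring E] [Finite E] (s : RInv E) {v : E} (h : v * s v = 1) :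
    ∃ u : ↥s.U, ((u : Eˣ) : E) = v :=
  ⟨⟨⟨v, s v, h, mul_eq_one_comm.mp h⟩, h⟩, rfl⟩

/-- **The unitary group of a product of simple rings.** -/
theorem good_unitary_pi [Finite (∀ i, R i)] {p : ℕ} [hp : Fact p.Prime] (hL : ∀ i, Good p (R i)ˣ)
    (hU : ∀ i (hi : s (Pi.single i 1) = Pi.single i 1), Good p ↥(s.factor i hi).U) : Good p ↥s.U := by
  have hfin : ∀ i, Finite (R i) := fun i => Finite.of_surjective (fun x : ∀ i, R i => x i)
    (fun a => ⟨Pi.single i a, Pi.single_eq_same i a⟩)
  have : Finite (∀ i, R i)ˣ := inferInstance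
  let f : ∀ i, ↥s.U →* (R i)ˣ := fun i => (Units.map (Pi.evalMonoidHom R i)).comp s.U.subtype
  have hf : ∀ i (u : ↥s.U), ((f i u : (R i)ˣ) : R i) = ((u : (∀ i, R i)ˣ) : ∀ i, R i) i := fun _ _ => rfl
  refine Good.of_family (fun i => (f i).rangeRestrict) (fun i => (f i).rangeRestrict_surjective) ?_ ?_
  · intro i
    obtain ⟨j, hj⟩ := exists_tau s i
    by_cases hij : j = i
    · subst hij
      have hr : (f j).range = (s.factor j hj).U := by
        ext u
        constructor
        · rintro ⟨v, rfl⟩
          have h1 : ((v : (∀ i, R i)ˣ) : ∀ i, R i) * s ((v : (∀ i, R i)ˣ) : ∀ i, R i) = 1 := v.2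
          have h2 := congrFun h1 j
          rw [Pi.mul_apply, apply_of_fix s hj] at h2
          exact h2
        · intro hu
          have h1 : (u : R j) * s (Pi.single j (u : R j)) j = 1 := hu
          obtain ⟨w, hw⟩ := exists_mem_U s (v := Pi.single j (u : R j) + (1 - Pi.single j 1)) (by
            have hs : s (Pi.single j (u : R j) + (1 - Pi.single j 1))
                = s (Pi.single j (u : R j)) + (1 - Pi.single j 1) := by
              have h2 : s (1 - Pi.single j 1) + s (Pi.single j 1) = 1 := by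
                rw [← s.add, sub_add_cancel, s.one]
              rw [s.add, eq_sub_of_add_eq h2, hj]
            rw [hs]
            funext k
            by_cases hk : k = j
            · subst hk
              simpa using h1
            · have h3 := single_supp s hj (u : R j) hk
              simp [Pi.single_eq_of_ne hk, h3])
          refine ⟨w, ?_⟩
          apply Units.ext
          rw [hf, hw]
          simp
      rw [hr]
      exact hU j hj
    · have hr : (f i).range = ⊤ := by
        rw [eq_top_iff]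
        intro u _
        have hji : s (Pi.single j 1) = Pi.single i 1 := by rw [← hj, s.inv]
        obtain ⟨w, hw⟩ := exists_mem_U s
          (v := Pi.single i (u : R i) + s (Pi.single i ((u⁻¹ : (R i)ˣ) : R i))
            + (1 - Pi.single i 1 - Pi.single j 1)) (by
            have hs : s (Pi.single i (u : R i) + s (Pi.single i ((u⁻¹ : (R i)ˣ) : R i))
                + (1 - Pi.single i 1 - Pi.single j 1))
                = s (Pi.single i (u : R i)) + Pi.single i ((u⁻¹ : (R i)ˣ) : R i)
                + (1 - Pi.single i 1 - Pi.single j 1) := by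
              have h2 : s (1 - Pi.single i 1 - Pi.single j 1) + s (Pi.single j 1) + s (Pi.single i 1) = 1 := by
                rw [← s.add, sub_add_cancel, ← s.add, sub_add_cancel, s.one]
              have h3 : s (1 - Pi.single i 1 - Pi.single j 1) = 1 - Pi.single i 1 - Pi.single j 1 := by
                rw [hj, hji] at h2
                rw [eq_sub_iff_add_eq, eq_sub_iff_add_eq, add_right_comm]
                exact h2
              rw [s.add, s.add, s.inv, h3]
            rw [hs]
            funext k
            by_cases hk : k = i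
            · subst hk
              have h4 := single_supp s hj ((u⁻¹ : (R k)ˣ) : R k) (Ne.symm hij)
              have h5 := single_supp s hj (u : R k) (Ne.symm hij)
              have h6 : (Pi.single j (1 : R j) : ∀ i, R i) k = 0 := Pi.single_eq_of_ne (Ne.symm hij) _
              simp [h4, h5, h6]
            · by_cases hkj : k = j
              · subst hkj
                have h6 : (Pi.single i (1 : R i) : ∀ i, R i) k = 0 := Pi.single_eq_of_ne hk _
                have h7 : ∀ m : R i, (Pi.single i m : ∀ i, R i) k = 0 := fun m => Pi.single_eq_of_ne hk _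
                have h8 : s (Pi.single i ((u⁻¹ : (R i)ˣ) : R i)) k * s (Pi.single i (u : R i)) k = 1 := by
                  have h9 : s (Pi.single i ((u⁻¹ : (R i)ˣ) : R i)) * s (Pi.single i (u : R i)) = Pi.single k 1 := by
                    rw [← s.mul, ← Pi.single_mul, Units.mul_inv, hj]
                  have := congrFun h9 k
                  rwa [Pi.mul_apply, Pi.single_eq_same] at this
                simp [h6, h7, h8]
              · have h4 := single_supp s hj ((u⁻¹ : (R i)ˣ) : R i) hkj
                have h5 := single_supp s hj (u : R i) hkj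
                have h7 : ∀ m : R i, (Pi.single i m : ∀ i, R i) k = 0 := fun m => Pi.single_eq_of_ne hk _
                have h6 : (Pi.single j (1 : R j) : ∀ i, R i) k = 0 := Pi.single_eq_of_ne hkj _
                simp [h4, h5, h6, h7])
        refine ⟨w, ?_⟩
        apply Units.ext
        rw [hf, hw]
        have h4 := single_supp s hj ((u⁻¹ : (R i)ˣ) : R i) (Ne.symm hij)
        have h6 : (Pi.single j (1 : R j) : ∀ i, R i) i = 0 := Pi.single_eq_of_ne (Ne.symm hij) _
        simp [h4, h6]
      rw [hr]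
      exact (hL i).congr Subgroup.topEquiv.symm
  · have hk : (⨅ i, ((f i).rangeRestrict).ker) = ⊥ := by
      rw [eq_bot_iff]
      intro u hu
      rw [mem_iInf] at hu
      rw [mem_bot]
      apply Subtype.ext
      apply Units.ext
      funext i
      have h1 := hu i
      rw [MonoidHom.ker_rangeRestrict, MonoidHom.mem_ker] at h1
      exact congrArg Units.val h1
    rw [hk]
    exact bot_le

end Pi

end Cfsg.Agent.BpLin

end

-- merged: Cfsg.Agent.BpLin.HermMat
section

/-!
# Involutions of the second kind of a matrix ring over a finite field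

* `exists_card_sq` : an involution `σ ≠ 1` of the finite field `D` is `x ↦ x ^ q`, `|D| = q ^ 2`;
* `exists_conj_of_algEquiv` : automorphisms of a matrix algebra are inner;
* `exists_form` : an involution of the second kind is `A ↦ Q (Q⁻¹ A Q)^* Q⁻¹`;
* `good_unitary_matrix` : its unitary group is good.
-/

set_option autoImplicit false
set_option linter.unusedSectionVars false

namespace Cfsg.Agent.BpLin

open Subgroup Cfsg Cfsg.Agent.Lib Cfsg.Agent.BpTab Matrix
open Cfsg.Agent.ClassicalGeometry.InvolutiveNorm Cfsg.Agent.ClassicalGeometry.HermOrthonormal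

theorem exists_card_sq {D : Type*} [Field D] [Finite D] {σ : D →+* D} (hσ : σ ≠ RingHom.id D)
    (hσ2 : ∀ a, σ (σ a) = a) : ∃ q : ℕ, Nat.card D = q ^ 2 ∧ ∀ x, σ x = x ^ q := by
  obtain ⟨p, hp⟩ := CharP.exists D
  have hpp : Fact p.Prime := ⟨CharP.char_is_prime D p⟩
  let _ : Algebra (ZMod p) D := ZMod.algebra D p
  let φ : D →ₐ[ZMod p] D := { σ with
    commutes' := fun c => by
      have h1 : σ.comp (algebraMap (ZMod p) D) = algebraMap (ZMod p) D := Subsingleton.elim _ _
      exact congrArg (fun f : ZMod p →+* D => f c) h1 }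
  obtain ⟨n, hn⟩ := (FiniteField.bijective_frobeniusAlgHom_pow (ZMod p) D).2 φ
  have hx : ∀ x, σ x = x ^ p ^ (n : ℕ) := by
    intro x
    have h1 : (FiniteField.frobeniusAlgHom (ZMod p) D ^ (n : ℕ)) x = φ x := by
      have := congrArg (fun f : D →ₐ[ZMod p] D => f x) hn
      exact this
    rw [AlgHom.coe_pow, FiniteField.coe_frobeniusAlgHom, pow_iterate, ZMod.card] at h1
    exact h1.symm
  have h2 : FiniteField.frobeniusAlgHom (ZMod p) D ^ (2 * (n : ℕ)) = 1 := by
    apply AlgHom.ext
    intro x
    rw [AlgHom.coe_pow, FiniteField.coe_frobeniusAlgHom, pow_iterate, ZMod.card, two_mul, pow_add]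
    change x ^ (p ^ (n : ℕ) * p ^ (n : ℕ)) = x
    rw [pow_mul, ← hx, ← hx, hσ2]
  have h3 := orderOf_dvd_of_pow_eq_one h2
  rw [FiniteField.orderOf_frobeniusAlgHom] at h3
  have h4 : (n : ℕ) ≠ 0 := by
    intro h
    apply hσ
    apply RingHom.ext
    intro x
    rw [hx, h, pow_zero, pow_one]
    rfl
  have h5 := n.2
  have h6 : Module.finrank (ZMod p) D = 2 * (n : ℕ) := by
    obtain ⟨k, hk⟩ := h3
    have hk1 : k = 1 := by
      rcases Nat.lt_or_ge k 1 with h | h
      · have : k = 0 := by omega
        subst this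
        omega
      · rcases Nat.eq_or_lt_of_le h with h | h
        · exact h.symm
        · exfalso
          have : Module.finrank (ZMod p) D * 2 ≤ Module.finrank (ZMod p) D * k := Nat.mul_le_mul_left _ h
          omega
    rw [hk1, mul_one] at hk
    exact hk.symm
  refine ⟨p ^ (n : ℕ), ?_, hx⟩
  have := Fintype.ofFinite D
  rw [Nat.card_eq_fintype_card, Module.card_eq_pow_finrank (K := ZMod p), ZMod.card, ← pow_mul, mul_comm (n : ℕ) 2]
  exact congrArg (p ^ ·) h6

section Matrix

variable {D : Type*} [Field D] {d : ℕ}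

/-- Automorphisms of a matrix algebra are inner. -/
theorem exists_conj_of_algEquiv (ψ : Matrix (Fin d) (Fin d) D ≃ₐ[D] Matrix (Fin d) (Fin d) D) :
    ∃ P : GL (Fin d) D, ∀ A : Matrix (Fin d) (Fin d) D,
      ψ A = (P : Matrix (Fin d) (Fin d) D) * A * ((P⁻¹ : GL (Fin d) D) : Matrix (Fin d) (Fin d) D) := by
  let e : Matrix (Fin d) (Fin d) D ≃ₐ[D] Module.End D (Fin d → D) := Matrix.toLinAlgEquiv'
  obtain ⟨T, hT⟩ := AlgEquiv.eq_linearEquivConjAlgEquiv ((e.symm.trans ψ).trans e)
  let P : GL (Fin d) D :=
    ⟨e.symm T.toLinearMap, e.symm T.symm.toLinearMap, by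
      rw [← map_mul]
      have : (T.toLinearMap * T.symm.toLinearMap : Module.End D (Fin d → D)) = 1 :=
        LinearMap.ext fun x => T.apply_symm_apply x
      rw [this, map_one], by
      rw [← map_mul]
      have : (T.symm.toLinearMap * T.toLinearMap : Module.End D (Fin d → D)) = 1 :=
        LinearMap.ext fun x => T.symm_apply_apply x
      rw [this, map_one]⟩
  refine ⟨P, fun A => ?_⟩
  have h1 : e (ψ A) = T.conjAlgEquiv D (e A) := by
    rw [← hT]
    change e (ψ A) = e (ψ (e.symm (e A)))
    rw [e.symm_apply_apply]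
  have hP : e (P : Matrix (Fin d) (Fin d) D) = T.toLinearMap := e.apply_symm_apply _
  have hP' : e ((P⁻¹ : GL (Fin d) D) : Matrix (Fin d) (Fin d) D) = T.symm.toLinearMap := e.apply_symm_apply _
  apply e.injective
  rw [h1, map_mul, map_mul, hP, hP']
  rfl

variable [NeZero d] (s : RInv (Matrix (Fin d) (Fin d) D))

theorem scalar_mem_center (c : D) : Matrix.scalar (Fin d) c ∈ Subring.center (Matrix (Fin d) (Fin d) D) := by
  rw [Subring.mem_center_iff]
  intro g
  exact ((Matrix.scalar_commute c (fun r => Commute.all c r) g).eq).symm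

theorem exists_scalar {A : Matrix (Fin d) (Fin d) D} (h : A ∈ Subring.center (Matrix (Fin d) (Fin d) D)) :
    ∃ c : D, A = Matrix.scalar (Fin d) c := by
  have h1 : A ∈ Set.range (Matrix.scalar (Fin d)) := by
    rw [Matrix.mem_range_scalar_iff_commute_single']
    intro i j
    exact (Subring.mem_center_iff.mp h _)
  obtain ⟨c, hc⟩ := h1
  exact ⟨c, hc.symm⟩

theorem exists_sigma : ∃ σ : D →+* D, (∀ a, σ (σ a) = a) ∧
    ∀ c, s (Matrix.scalar (Fin d) c) = Matrix.scalar (Fin d) (σ c) := by
  have h1 : ∀ c : D, ∃ c' : D, s (Matrix.scalar (Fin d) c) = Matrix.scalar (Fin d) c' := fun c =>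
    exists_scalar (s.mem_center (scalar_mem_center c))
  choose f hf using h1
  have : Nonempty (Fin d) := ⟨0⟩
  have hinj : ∀ a b : D, Matrix.scalar (Fin d) a = Matrix.scalar (Fin d) b → a = b :=
    fun a b h => Matrix.scalar_inj.mp h
  have hone : Matrix.scalar (Fin d) (1 : D) = 1 := map_one _
  have hzero : Matrix.scalar (Fin d) (0 : D) = 0 := map_zero _
  refine ⟨{ toFun := f, map_one' := ?_, map_mul' := ?_, map_zero' := ?_, map_add' := ?_ }, ?_, hf⟩
  · apply hinj
    rw [← hf, hone, s.one]
  · intro a b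
    apply hinj
    rw [← hf, mul_comm a b, map_mul, s.mul, hf, hf, ← map_mul]
  · apply hinj
    rw [← hf, hzero, s.zero]
  · intro a b
    apply hinj
    rw [← hf, map_add, s.add, hf, hf, ← map_add]
  · intro a
    apply hinj
    change Matrix.scalar (Fin d) (f (f a)) = _
    rw [← hf, ← hf, s.inv]

/-- conjugate transpose -/
def cst (σ : D →+* D) (A : Matrix (Fin d) (Fin d) D) : Matrix (Fin d) (Fin d) D := (A.map σ)ᵀ

omit [NeZero d] in
theorem cst_mul (σ : D →+* D) (A B : Matrix (Fin d) (Fin d) D) : cst σ (A * B) = cst σ B * cst σ A := by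
  rw [cst, Matrix.map_mul, Matrix.transpose_mul]; rfl

omit [NeZero d] in
theorem cst_add (σ : D →+* D) (A B : Matrix (Fin d) (Fin d) D) : cst σ (A + B) = cst σ A + cst σ B := by
  ext i j; simp [cst]

omit [NeZero d] in
theorem cst_cst {σ : D →+* D} (hσ2 : ∀ a, σ (σ a) = a) (A : Matrix (Fin d) (Fin d) D) :
    cst σ (cst σ A) = A := by
  ext i j; simp [cst, hσ2]

omit [NeZero d] in
theorem cst_one (σ : D →+* D) : cst σ (1 : Matrix (Fin d) (Fin d) D) = 1 := by
  rw [cst, Matrix.map_one _ (map_zero σ) (map_one σ), Matrix.transpose_one]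

omit [NeZero d] in
theorem cst_smul (σ : D →+* D) (c : D) (A : Matrix (Fin d) (Fin d) D) : cst σ (c • A) = σ c • cst σ A := by
  ext i j; simp [cst]

omit [NeZero d] in
theorem cst_scalar (σ : D →+* D) (c : D) : cst σ (Matrix.scalar (Fin d) c) = Matrix.scalar (Fin d) (σ c) := by
  have h : ∀ a : D, Matrix.scalar (Fin d) a = a • (1 : Matrix (Fin d) (Fin d) D) := fun a => by
    rw [Matrix.scalar_apply, Matrix.smul_one_eq_diagonal]
  rw [h, h, cst_smul, cst_one]

theorem exists_form_aux {σ : D →+* D} (hσ2 : ∀ a, σ (σ a) = a)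
    (hs : ∀ c, s (Matrix.scalar (Fin d) c) = Matrix.scalar (Fin d) (σ c)) :
    ∃ P : GL (Fin d) D, ∀ A, s A = (P : Matrix (Fin d) (Fin d) D) * cst σ A *
      ((P⁻¹ : GL (Fin d) D) : Matrix (Fin d) (Fin d) D) := by
  let ψ : Matrix (Fin d) (Fin d) D ≃ₐ[D] Matrix (Fin d) (Fin d) D :=
    { toFun := fun A => s (cst σ A)
      invFun := fun A => cst σ (s A)
      left_inv := fun A => by
        change cst σ (s (s (cst σ A))) = A
        rw [s.inv, cst_cst hσ2]
      right_inv := fun A => by
        change s (cst σ (cst σ (s A))) = A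
        rw [cst_cst hσ2, s.inv]
      map_mul' := fun A B => by rw [cst_mul, s.mul]
      map_add' := fun A B => by rw [cst_add, s.add]
      commutes' := fun c => by
        change s (cst σ (Matrix.scalar (Fin d) c)) = Matrix.scalar (Fin d) c
        rw [cst_scalar, hs, hσ2] }
  obtain ⟨P, hP⟩ := exists_conj_of_algEquiv ψ
  refine ⟨P, fun A => ?_⟩
  have h1 := hP (cst σ A)
  change s (cst σ (cst σ A)) = _ at h1
  rwa [cst_cst hσ2] at h1

/-- An involution of the second kind is the adjoint for a hermitian matrix. -/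
theorem exists_herm {σ : D →+* D} (hσ : σ ≠ RingHom.id D) (hσ2 : ∀ a, σ (σ a) = a)
    (hs : ∀ c, s (Matrix.scalar (Fin d) c) = Matrix.scalar (Fin d) (σ c)) :
    ∃ P : GL (Fin d) D, cst σ (P : Matrix (Fin d) (Fin d) D) = P ∧
      ∀ A, s A = (P : Matrix (Fin d) (Fin d) D) * cst σ A *
      ((P⁻¹ : GL (Fin d) D) : Matrix (Fin d) (Fin d) D) := by
  obtain ⟨P, hP⟩ := exists_form_aux s hσ2 hs
  set M := (P : Matrix (Fin d) (Fin d) D) with hM
  set M' := ((P⁻¹ : GL (Fin d) D) : Matrix (Fin d) (Fin d) D) with hM'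
  have hMM' : M * M' = 1 := P.mul_inv
  have hM'M : M' * M = 1 := P.inv_mul
  have hstar : cst σ M' * cst σ M = 1 := by rw [← cst_mul, hMM', cst_one]
  have hstar' : cst σ M * cst σ M' = 1 := by rw [← cst_mul, hM'M, cst_one]
  -- `C = M^* M⁻¹` is central
  have hC : cst σ M * M' ∈ Subring.center (Matrix (Fin d) (Fin d) D) := by
    rw [Subring.mem_center_iff]
    intro A
    have h1 := s.inv A
    rw [hP, hP, cst_mul, cst_mul, cst_cst hσ2] at h1
    -- `M * (M'^* * (A * M^*)) * M' = A`
    calc A * (cst σ M * M') = (cst σ M * M') * (M * (cst σ M' * (A * cst σ M)) * M') := by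
          rw [show cst σ M * M' * (M * (cst σ M' * (A * cst σ M)) * M')
              = cst σ M * (M' * M) * cst σ M' * A * cst σ M * M' by simp only [mul_assoc]]
          rw [hM'M, mul_one, hstar', one_mul, mul_assoc]
      _ = (cst σ M * M') * A := by rw [h1]
  obtain ⟨c, hc⟩ := exists_scalar hC
  have hc1 : cst σ M = c • M := by
    have h1 : cst σ M = cst σ M * M' * M := by rw [mul_assoc, hM'M, mul_one]
    rw [h1, hc, Matrix.scalar_apply, ← Matrix.smul_one_eq_diagonal, Matrix.smul_mul, one_mul]
  have hM0 : M ≠ 0 := by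
    intro h
    rw [h, zero_mul] at hMM'
    exact zero_ne_one hMM'
  have hc2 : c * σ c = 1 := by
    have h1 : cst σ (cst σ M) = (σ c * c) • M := by rw [hc1, cst_smul, hc1, smul_smul]
    rw [cst_cst hσ2] at h1
    have h2 : (1 - σ c * c) • M = 0 := by rw [sub_smul, one_smul, ← h1, sub_self]
    rcases smul_eq_zero.mp h2 with h3 | h3
    · rw [mul_comm, ← sub_eq_zero.mp h3]
    · exact absurd h3 hM0
  obtain ⟨y, hy0, hy⟩ := exists_div_eq_of_mul_eq_one hσ hσ2 hc2
  have hσy : σ y ≠ 0 := fun h => hy0 ((map_eq_zero σ).mp h)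
  refine ⟨⟨y • M, y⁻¹ • M', ?_, ?_⟩, ?_, ?_⟩
  · rw [smul_mul_smul_comm, mul_inv_cancel₀ hy0, hMM', one_smul]
  · rw [smul_mul_smul_comm, inv_mul_cancel₀ hy0, hM'M, one_smul]
  · change cst σ (y • M) = y • M
    rw [cst_smul, hc1, smul_smul, hy, mul_div_cancel₀ _ hσy]
  · intro A
    change s A = (y • M) * cst σ A * (y⁻¹ • M')
    rw [hP, Matrix.smul_mul, Matrix.smul_mul, Matrix.mul_smul, smul_smul, mul_inv_cancel₀ hy0, one_smul]

omit [NeZero d] in
/-- A hermitian matrix over a finite field is `Q Q^*`. -/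
theorem exists_sqrt [Finite D] {σ : D →+* D} (hσ : σ ≠ RingHom.id D) (hσ2 : ∀ a, σ (σ a) = a) (P : GL (Fin d) D)
    (hP : cst σ (P : Matrix (Fin d) (Fin d) D) = P) :
    ∃ Q : GL (Fin d) D, (P : Matrix (Fin d) (Fin d) D) = (Q : Matrix (Fin d) (Fin d) D) * cst σ Q := by
  set M := ((P⁻¹ : GL (Fin d) D) : Matrix (Fin d) (Fin d) D) with hM
  have hPM : (P : Matrix (Fin d) (Fin d) D) * M = 1 := P.mul_inv
  have hMP : M * (P : Matrix (Fin d) (Fin d) D) = 1 := P.inv_mul
  have hMs : cst σ M = M := by
    have h1 : cst σ M * (P : Matrix (Fin d) (Fin d) D) = 1 := by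
      conv_lhs => rw [← hP]
      rw [← cst_mul, hPM, cst_one]
    calc cst σ M = cst σ M * ((P : Matrix (Fin d) (Fin d) D) * M) := by rw [hPM, mul_one]
      _ = M := by rw [← mul_assoc, h1, one_mul]
  have hMij : ∀ i j, σ (M i j) = M j i := by
    intro i j
    conv_rhs => rw [← hMs]
    rfl
  let B : (Fin d → D) →ₛₗ[σ] (Fin d → D) →ₗ[D] D := Matrix.toLinearMapₛₗ₂' D σ (RingHom.id D) M
  have hB : ∀ x y, B x y = ∑ i, ∑ j, σ (x i) • (RingHom.id D) (y j) • M i j :=
    fun x y => Matrix.toLinearMapₛₗ₂'_apply σ (RingHom.id D) M x y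
  have hS : B.IsSymm := ⟨fun x y => by
    rw [hB, hB, map_sum]
    simp only [map_sum, smul_eq_mul, map_mul, hσ2, RingHom.id_apply, hMij]
    rw [Finset.sum_comm]
    refine Finset.sum_congr rfl fun i _ => Finset.sum_congr rfl fun j _ => ?_
    ring⟩
  have hsep : B.SeparatingLeft := by
    intro x hx
    have h1 : Matrix.vecMul (fun i => σ (x i)) M = 0 := by
      funext j
      have h2 := hx (Pi.single j 1)
      rw [hB] at h2
      simp only [RingHom.id_apply, smul_eq_mul] at h2
      rw [Pi.zero_apply, Matrix.vecMul, dotProduct, ← h2]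
      refine Finset.sum_congr rfl fun i _ => ?_
      rw [Finset.sum_eq_single j]
      · rw [Pi.single_eq_same, one_mul]
      · intro k _ hk
        rw [Pi.single_eq_of_ne hk, zero_mul, mul_zero]
      · intro h; exact absurd (Finset.mem_univ j) h
    have h2 : Matrix.vecMul (fun i => σ (x i)) (M * (P : Matrix (Fin d) (Fin d) D)) = 0 := by
      rw [← Matrix.vecMul_vecMul, h1, Matrix.zero_vecMul]
    rw [hMP, Matrix.vecMul_one] at h2
    funext i
    have h3 := congrFun h2 i
    exact (map_eq_zero σ).mp h3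
  obtain ⟨v, hv⟩ := exists_orthonormal_family hσ hσ2 B hS hsep d (by rw [Module.finrank_fin_fun])
  let Q₀ : Matrix (Fin d) (Fin d) D := Matrix.of fun i j => v j i
  have hQ : cst σ Q₀ * M * Q₀ = 1 := by
    ext i j
    rw [Matrix.mul_apply]
    have h1 := hv i j
    rw [hB] at h1
    rw [Matrix.one_apply, ← h1, Finset.sum_comm]
    refine Finset.sum_congr rfl fun k _ => ?_
    rw [Matrix.mul_apply, Finset.sum_mul]
    refine Finset.sum_congr rfl fun l _ => ?_
    simp only [cst, Q₀, Matrix.transpose_apply, Matrix.map_apply, Matrix.of_apply, RingHom.id_apply, smul_eq_mul]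
    ring
  have hQ' : Q₀ * (cst σ Q₀ * M) = 1 := mul_eq_one_comm.mp hQ
  refine ⟨⟨Q₀, cst σ Q₀ * M, hQ', hQ⟩, ?_⟩
  change (P : Matrix (Fin d) (Fin d) D) = Q₀ * cst σ Q₀
  calc (P : Matrix (Fin d) (Fin d) D) = Q₀ * (cst σ Q₀ * M) * (P : Matrix (Fin d) (Fin d) D) := by
        rw [hQ', one_mul]
    _ = Q₀ * cst σ Q₀ * (M * (P : Matrix (Fin d) (Fin d) D)) := by simp only [mul_assoc]
    _ = Q₀ * cst σ Q₀ := by rw [hMP, mul_one]

omit [NeZero d] in
/-- Membership in `GU`. -/
theorem mem_GU_iff_cst [Fintype D] {q : ℕ} (hD : Fintype.card D = q ^ 2) {σ : D →+* D} (hσ : ∀ x, σ x = x ^ q)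
    (A : GL (Fin d) D) : A ∈ GU d D q ↔ (A : Matrix (Fin d) (Fin d) D) * cst σ A = 1 := by
  have hmap : (A : Matrix (Fin d) (Fin d) D).map (fun x => x ^ q) = (A : Matrix (Fin d) (Fin d) D).map σ := by
    ext i j; simp [hσ]
  have h0 : (A : Matrix (Fin d) (Fin d) D) * cst σ A = 1 ↔
      (A : Matrix (Fin d) (Fin d) D)ᵀ * (A : Matrix (Fin d) (Fin d) D).map σ = 1 := by
    rw [mul_eq_one_comm (a := (A : Matrix (Fin d) (Fin d) D)), ← Matrix.transpose_inj, cst, Matrix.transpose_mul,
      Matrix.transpose_transpose, Matrix.transpose_one]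
  have hq := ClassicalGeometry.GUBasic.two_le hD
  rw [h0, ClassicalGeometry.GUBasic.mem_GU_iff]
  constructor
  · intro h
    rw [← hmap]
    exact ClassicalGeometry.GUBasic.transpose_mul_map (by omega) h
  · intro h u v
    have hf : ∀ u v : Fin d → D, hermForm d D q u v = u ⬝ᵥ (fun i => σ (v i)) := by
      intro u v
      rw [hermForm, dotProduct]
      refine Finset.sum_congr rfl fun i _ => ?_
      rw [hσ]
    rw [hf, hf]
    have h2 : (fun i => σ (((A : Matrix (Fin d) (Fin d) D) *ᵥ v) i)) =
        (A : Matrix (Fin d) (Fin d) D).map σ *ᵥ (fun i => σ (v i)) := by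
      funext i
      exact RingHom.map_mulVec σ _ _ i
    rw [h2, Matrix.dotProduct_mulVec, ← Matrix.vecMul_transpose, Matrix.vecMul_vecMul, h, Matrix.vecMul_one]

theorem good_unitary_matrix [Finite D] {p : ℕ} [hp : Fact p.Prime]
    (h2 : ∃ z ∈ Subring.center (Matrix (Fin d) (Fin d) D), s z ≠ z) : Good p ↥s.U := by
  have := Fintype.ofFinite D
  obtain ⟨σ, hσ2, hs⟩ := exists_sigma s
  have hσ : σ ≠ RingHom.id D := by
    rintro rfl
    obtain ⟨z, hz, hz2⟩ := h2
    obtain ⟨c, rfl⟩ := exists_scalar hz
    exact hz2 (hs c)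
  obtain ⟨P, hPs, hP⟩ := exists_herm s hσ hσ2 hs
  obtain ⟨Q, hQ⟩ := exists_sqrt hσ hσ2 P hPs
  obtain ⟨q, hq, hσq⟩ := exists_card_sq hσ hσ2
  rw [Nat.card_eq_fintype_card] at hq
  have key : s.U.map (MulAut.conj Q⁻¹).toMonoidHom = GU d D q := by
    have hQ1 : (Q : Matrix (Fin d) (Fin d) D) * ((Q⁻¹ : GL (Fin d) D) : Matrix (Fin d) (Fin d) D) = 1 := Q.mul_inv
    have hQ2 : ((Q⁻¹ : GL (Fin d) D) : Matrix (Fin d) (Fin d) D) * (Q : Matrix (Fin d) (Fin d) D) = 1 := Q.inv_mul
    have hP1 : (P : Matrix (Fin d) (Fin d) D) * ((P⁻¹ : GL (Fin d) D) : Matrix (Fin d) (Fin d) D) = 1 := P.mul_inv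
    have hP2 : ((P⁻¹ : GL (Fin d) D) : Matrix (Fin d) (Fin d) D) * (P : Matrix (Fin d) (Fin d) D) = 1 := P.inv_mul
    have hst : cst σ (Q : Matrix (Fin d) (Fin d) D) * cst σ ((Q⁻¹ : GL (Fin d) D) : Matrix (Fin d) (Fin d) D) = 1 := by
      rw [← cst_mul, hQ2, cst_one]
    have hst' : cst σ ((Q⁻¹ : GL (Fin d) D) : Matrix (Fin d) (Fin d) D) * cst σ (Q : Matrix (Fin d) (Fin d) D) = 1 := by
      rw [← cst_mul, hQ1, cst_one]
    -- the main computation
    have hmain : ∀ w : Matrix (Fin d) (Fin d) D,
        ((Q : Matrix (Fin d) (Fin d) D) * w * ((Q⁻¹ : GL (Fin d) D) : Matrix (Fin d) (Fin d) D)) *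
          s ((Q : Matrix (Fin d) (Fin d) D) * w * ((Q⁻¹ : GL (Fin d) D) : Matrix (Fin d) (Fin d) D)) =
        (Q : Matrix (Fin d) (Fin d) D) * (w * cst σ w) * (cst σ (Q : Matrix (Fin d) (Fin d) D) *
          ((P⁻¹ : GL (Fin d) D) : Matrix (Fin d) (Fin d) D)) := by
      intro w
      rw [hP, hQ, cst_mul, cst_mul]
      calc (Q : Matrix (Fin d) (Fin d) D) * w * ((Q⁻¹ : GL (Fin d) D) : Matrix (Fin d) (Fin d) D) *
            ((Q : Matrix (Fin d) (Fin d) D) * cst σ (Q : Matrix (Fin d) (Fin d) D) *
            (cst σ ((Q⁻¹ : GL (Fin d) D) : Matrix (Fin d) (Fin d) D) * (cst σ w * cst σ (Q : Matrix (Fin d) (Fin d) D)))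
            * ((P⁻¹ : GL (Fin d) D) : Matrix (Fin d) (Fin d) D))
          = (Q : Matrix (Fin d) (Fin d) D) * w * (((Q⁻¹ : GL (Fin d) D) : Matrix (Fin d) (Fin d) D) *
            (Q : Matrix (Fin d) (Fin d) D)) * (cst σ (Q : Matrix (Fin d) (Fin d) D) *
            cst σ ((Q⁻¹ : GL (Fin d) D) : Matrix (Fin d) (Fin d) D)) * cst σ w *
            (cst σ (Q : Matrix (Fin d) (Fin d) D) * ((P⁻¹ : GL (Fin d) D) : Matrix (Fin d) (Fin d) D)) := by
            simp only [mul_assoc]
        _ = _ := by rw [hQ2, hst, mul_one, mul_one]; simp only [mul_assoc]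
    ext w
    rw [mem_GU_iff_cst hq hσq]
    constructor
    · rintro ⟨u, hu, rfl⟩
      have hu1 : (u : Matrix (Fin d) (Fin d) D) * s (u : Matrix (Fin d) (Fin d) D) = 1 := hu
      have hw : ((MulAut.conj Q⁻¹).toMonoidHom u : GL (Fin d) D) = Q⁻¹ * u * Q := by
        change Q⁻¹ * u * (Q⁻¹)⁻¹ = _
        rw [inv_inv]
      rw [hw]
      set w := Q⁻¹ * u * Q with hwdef
      have hu2 : (u : Matrix (Fin d) (Fin d) D) = (Q : Matrix (Fin d) (Fin d) D) * (w : Matrix (Fin d) (Fin d) D) *
          ((Q⁻¹ : GL (Fin d) D) : Matrix (Fin d) (Fin d) D) := by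
        rw [← Units.val_mul, ← Units.val_mul]
        congr 1
        rw [hwdef]; group
      rw [hu2, hmain] at hu1
      calc (w : Matrix (Fin d) (Fin d) D) * cst σ (w : Matrix (Fin d) (Fin d) D)
          = (((Q⁻¹ : GL (Fin d) D) : Matrix (Fin d) (Fin d) D) * (Q : Matrix (Fin d) (Fin d) D)) *
            ((w : Matrix (Fin d) (Fin d) D) * cst σ (w : Matrix (Fin d) (Fin d) D)) *
            (cst σ (Q : Matrix (Fin d) (Fin d) D) * (((P⁻¹ : GL (Fin d) D) : Matrix (Fin d) (Fin d) D) *
            (P : Matrix (Fin d) (Fin d) D)) * cst σ ((Q⁻¹ : GL (Fin d) D) : Matrix (Fin d) (Fin d) D)) := by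
            rw [hQ2, hP2, mul_one, hst, one_mul, mul_one]
        _ = ((Q⁻¹ : GL (Fin d) D) : Matrix (Fin d) (Fin d) D) * ((Q : Matrix (Fin d) (Fin d) D) *
            ((w : Matrix (Fin d) (Fin d) D) * cst σ (w : Matrix (Fin d) (Fin d) D)) *
            (cst σ (Q : Matrix (Fin d) (Fin d) D) * ((P⁻¹ : GL (Fin d) D) : Matrix (Fin d) (Fin d) D))) *
            ((P : Matrix (Fin d) (Fin d) D) * cst σ ((Q⁻¹ : GL (Fin d) D) : Matrix (Fin d) (Fin d) D)) := by
            simp only [mul_assoc]
        _ = 1 := by
          rw [hu1, mul_one, hQ]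
          calc ((Q⁻¹ : GL (Fin d) D) : Matrix (Fin d) (Fin d) D) * ((Q : Matrix (Fin d) (Fin d) D) *
                cst σ (Q : Matrix (Fin d) (Fin d) D) * cst σ ((Q⁻¹ : GL (Fin d) D) : Matrix (Fin d) (Fin d) D))
              = (((Q⁻¹ : GL (Fin d) D) : Matrix (Fin d) (Fin d) D) * (Q : Matrix (Fin d) (Fin d) D)) *
                (cst σ (Q : Matrix (Fin d) (Fin d) D) *
                cst σ ((Q⁻¹ : GL (Fin d) D) : Matrix (Fin d) (Fin d) D)) := by simp only [mul_assoc]
            _ = 1 := by rw [hQ2, hst, one_mul]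
    · intro hw
      refine ⟨Q * w * Q⁻¹, ?_, ?_⟩
      · change ((Q * w * Q⁻¹ : GL (Fin d) D) : Matrix (Fin d) (Fin d) D) *
          s ((Q * w * Q⁻¹ : GL (Fin d) D) : Matrix (Fin d) (Fin d) D) = 1
        rw [Units.val_mul, Units.val_mul, hmain, hw, mul_one, ← mul_assoc, ← hQ, hP1]
      · change Q⁻¹ * (Q * w * Q⁻¹) * (Q⁻¹)⁻¹ = w
        group
  have e : ↥s.U ≃* ↥(GU d D q) :=
    (s.U.equivMapOfInjective _ (MulAut.conj Q⁻¹).injective).trans (MulEquiv.subgroupCongr key)
  exact (good_gu hq d).congr e.symm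

end Matrix

end Cfsg.Agent.BpLin

end

-- merged: Cfsg.Agent.BpLin.SemiRing
section

/-!
# `Good p` for the units and the unitary group of a finite semisimple ring

* `good_units` : `Good p Eˣ` for a finite semisimple ring `E`;
* `good_unitary` : `Good p (U s)` for an involution `s` of a finite semisimple ring without factors of the first kind.
-/

set_option autoImplicit false
set_option linter.unusedSectionVars false

namespace Cfsg.Agent.BpLin

open Subgroup Cfsg Cfsg.Agent.Lib Cfsg.Agent.BpTab

variable {p : ℕ} [hp : Fact p.Prime]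

theorem good_units_matrix {D : Type*} [DivisionRing D] [Finite D] (d : ℕ) :
    Good p (Matrix (Fin d) (Fin d) D)ˣ := by
  let _ : Field D := littleWedderburn D
  exact good_gl (F := D) d

theorem good_unitary_matrix' {D : Type*} [DivisionRing D] [Finite D] {d : ℕ} [NeZero d]
    (s : RInv (Matrix (Fin d) (Fin d) D))
    (h2 : ∃ z ∈ Subring.center (Matrix (Fin d) (Fin d) D), s z ≠ z) : Good p ↥s.U := by
  let _ : Field D := littleWedderburn D
  exact good_unitary_matrix s h2

theorem good_units (E : Type*) [Ring E] [Finite E] [IsSemisimpleRing E] : Good p Eˣ := by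
  obtain ⟨n, D, d, hD, hd, ⟨e⟩⟩ := IsSemisimpleRing.exists_ringEquiv_pi_matrix_divisionRing E
  have hfin : Finite (∀ i, Matrix (Fin (d i)) (Fin (d i)) (D i)) := Finite.of_equiv E e.toEquiv
  have hfin2 : ∀ i, Finite (Matrix (Fin (d i)) (Fin (d i)) (D i)) := fun i =>
    Finite.of_surjective (fun x : ∀ i, Matrix (Fin (d i)) (Fin (d i)) (D i) => x i)
      (fun a => ⟨Pi.single i a, by simp⟩)
  have hfin3 : ∀ i, Finite (D i) := fun i =>
    Finite.of_injective (fun c : D i => Matrix.scalar (Fin (d i)) c) (fun a b h => by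
      have : Nonempty (Fin (d i)) := ⟨0⟩
      exact Matrix.scalar_inj.mp h)
  have h1 : Good p (∀ i, (Matrix (Fin (d i)) (Fin (d i)) (D i))ˣ) :=
    Good.pi fun i => good_units_matrix (d i)
  exact h1.congr (MulEquiv.piUnits.symm.trans (Units.mapEquiv e.symm.toMulEquiv))

section Abstract

variable {ι : Type*} [Fintype ι] [DecidableEq ι] {R : ι → Type*} [∀ i, Ring (R i)] [∀ i, IsSimpleRing (R i)]

/-- The abstract form: `E` isomorphic to a product of simple rings. -/
theorem good_unitary_of_pi {E : Type*} [Ring E] [Finite E] (s : RInv E) (e : E ≃+* ∀ i, R i)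
    (hL : ∀ i, Good p (R i)ˣ)
    (hU : ∀ i (t : RInv (R i)), (∃ z ∈ Subring.center (R i), t z ≠ z) → Good p ↥t.U)
    (h2 : ∀ c ∈ Subring.center E, c * c = c → s c = c → c ≠ 0 → ∃ z ∈ Subring.center E, s z * c ≠ z * c) :
    Good p ↥s.U := by
  have hfin : Finite (∀ i, R i) := Finite.of_equiv E e.toEquiv
  have key : Good p ↥(s.congr e).U := by
    refine good_unitary_pi (s.congr e) hL fun i hi => ?_
    apply hU
    obtain ⟨c, hec⟩ : ∃ c : E, e c = Pi.single i 1 := e.surjective _
    have hone : (Pi.single i 1 : ∀ i, R i) * Pi.single i 1 = Pi.single i 1 := by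
      rw [← Pi.single_mul, mul_one]
    have hcc : c ∈ Subring.center E := by
      rw [Subring.mem_center_iff]
      intro g
      apply e.injective
      rw [map_mul, map_mul, hec]
      exact (Subring.mem_center_iff.mp (single_mem_center (R := R) i)) (e g)
    have hc2 : c * c = c := by
      apply e.injective
      rw [map_mul, hec, hone]
    have hsc : s c = c := by
      have h0 : e (s (e.symm (Pi.single i 1))) = Pi.single i 1 := hi
      rw [← hec, e.symm_apply_apply] at h0
      exact e.injective h0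
    have hc0 : c ≠ 0 := by
      intro h
      have h1 : (Pi.single i 1 : ∀ i, R i) = 0 := by rw [← hec, h, map_zero]
      have h1 := congrFun h1 i
      rw [Pi.single_eq_same] at h1
      exact one_ne_zero h1
    obtain ⟨z, hz, hzc⟩ := h2 c hcc hc2 hsc hc0
    refine ⟨e z i, ?_, ?_⟩
    · rw [Subring.mem_center_iff]
      intro g
      have h1 := Subring.mem_center_iff.mp hz (e.symm (Pi.single i g))
      have h2 := congrFun (congrArg e h1) i
      rw [map_mul, map_mul, e.apply_symm_apply, Pi.mul_apply, Pi.mul_apply, Pi.single_eq_same] at h2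
      exact h2
    · intro h
      apply hzc
      have h3 : (s.congr e) (e z) i = (s.congr e) (Pi.single i (e z i)) i := apply_of_fix (s.congr e) hi (e z)
      have h4 : (s.congr e) (e z) = e (s z) := by
        change e (s (e.symm (e z))) = e (s z)
        rw [e.symm_apply_apply]
      have h5 : e (s z) i = e z i := by
        rw [← h4, h3]
        exact h
      apply e.injective
      rw [map_mul, map_mul, hec]
      funext k
      by_cases hk : k = i
      · subst hk
        rw [Pi.mul_apply, Pi.mul_apply, h5]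
      · rw [Pi.mul_apply, Pi.mul_apply, Pi.single_eq_of_ne hk, mul_zero, mul_zero]
  exact key.congr (s.congrU e).symm

end Abstract

/-- **The unitary group of a finite semisimple ring with involution, no factors of the first kind.** -/
theorem good_unitary {E : Type*} [Ring E] [Finite E] [IsSemisimpleRing E] (s : RInv E)
    (h2 : ∀ c ∈ Subring.center E, c * c = c → s c = c → c ≠ 0 → ∃ z ∈ Subring.center E, s z * c ≠ z * c) :
    Good p ↥s.U := by
  obtain ⟨n, D, d, hD, hd, ⟨e⟩⟩ := IsSemisimpleRing.exists_ringEquiv_pi_matrix_divisionRing E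
  have hfin : Finite (∀ i, Matrix (Fin (d i)) (Fin (d i)) (D i)) := Finite.of_equiv E e.toEquiv
  have hfin2 : ∀ i, Finite (Matrix (Fin (d i)) (Fin (d i)) (D i)) := fun i =>
    Finite.of_surjective (fun x : ∀ i, Matrix (Fin (d i)) (Fin (d i)) (D i) => x i)
      (fun a => ⟨Pi.single i a, by simp⟩)
  have hne : ∀ i, Nonempty (Fin (d i)) := fun i => ⟨0⟩
  have hfin3 : ∀ i, Finite (D i) := fun i =>
    Finite.of_injective (fun c : D i => Matrix.scalar (Fin (d i)) c) (fun a b h => Matrix.scalar_inj.mp h)
  exact good_unitary_of_pi s e (fun i => good_units_matrix (d i)) (fun i t ht => good_unitary_matrix' t ht) h2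

end Cfsg.Agent.BpLin

end
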