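import Mathlib

/-!
# Hilbert 90 for semilinear maps of prime order

* `span_fixed` : `φ` semilinear for the automorphism `σ` of order `p` of the field `F`, `φ^p = 1`: the fixed points of
  `φ` span;
* `exists_units` (Hilbert 90), `exists_norm` (the norm onto the fixed field is surjective, `F` finite);
* `exists_norm_unitary` : the same for the norm one elements of a commuting involution.
-/

set_option autoImplicit false
set_option linter.unusedSectionVars false

namespace Cfsg.Agent.BpLin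

section Span

variable {F V : Type*} [Field F] [AddCommGroup V] [Module F V]

theorem pow_inj {σ : F ≃+* F} {p : ℕ} (hp : p.Prime) (hσ : σ ^ p = 1) (h1 : σ ≠ 1) {i j : ℕ} (hi : i < p)
    (hj : j < p) (h : σ ^ i = σ ^ j) : i = j := by
  have ho : orderOf σ = p := orderOf_eq_prime (hp := ⟨hp⟩) hσ h1
  exact pow_injOn_Iio_orderOf (by rw [Set.mem_Iio, ho]; exact hi) (by rw [Set.mem_Iio, ho]; exact hj) h

theorem iter_smul {σ : F ≃+* F} {φ : V →+ V} (hφ : ∀ (a : F) v, φ (a • v) = σ a • φ v) (k : ℕ) (a : F) (v : V) :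
    φ^[k] (a • v) = (σ ^ k) a • φ^[k] v := by
  induction k with
  | zero => rfl
  | succ k ih =>
    rw [Function.iterate_succ_apply', ih, hφ, Function.iterate_succ_apply', pow_succ']
    rfl

theorem iter_sum {φ : V →+ V} (p : ℕ) (hφp : ∀ v, φ^[p] v = v) (v : V) :
    φ (∑ i ∈ Finset.range p, φ^[i] v) = ∑ i ∈ Finset.range p, φ^[i] v := by
  rw [map_sum]
  have h1 : ∀ i, φ (φ^[i] v) = φ^[i + 1] v := fun i => (Function.iterate_succ_apply' _ _ _).symm
  simp only [h1]
  have h2 : ∑ i ∈ Finset.range p, φ^[i + 1] v + φ^[0] v = ∑ i ∈ Finset.range (p + 1), φ^[i] v :=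
    (Finset.sum_range_succ' (fun i => φ^[i] v) p).symm
  rw [Finset.sum_range_succ, hφp] at h2
  exact add_right_cancel h2

/-- The fixed points of a semilinear map of order `p` span. -/
theorem span_fixed {σ : F ≃+* F} {p : ℕ} (hp : p.Prime) (hσ : σ ^ p = 1) (h1 : σ ≠ 1) {φ : V →+ V}
    (hφ : ∀ (a : F) v, φ (a • v) = σ a • φ v) (hφp : ∀ v, φ^[p] v = v) :
    Submodule.span F {v | φ v = v} = ⊤ := by
  by_contra hne
  obtain ⟨f, hf0, hf⟩ := Submodule.exists_le_ker_of_lt_top _ (lt_top_iff_ne_top.mpr hne)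
  apply hf0
  ext v
  have hsum : ∀ a : F, ∑ i ∈ Finset.range p, (σ ^ i) a * f (φ^[i] v) = 0 := by
    intro a
    have h2 := iter_sum p hφp (a • v)
    have h3 : f (∑ i ∈ Finset.range p, φ^[i] (a • v)) = 0 := by
      apply LinearMap.mem_ker.mp
      exact hf (Submodule.subset_span h2)
    rw [map_sum] at h3
    rw [← h3]
    refine Finset.sum_congr rfl fun i _ => ?_
    rw [iter_smul hφ, map_smul, smul_eq_mul]
  let χ : Fin p → (F →* F) := fun i => ((σ ^ (i : ℕ) : F ≃+* F) : F →* F)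
  have hχ : Function.Injective χ := by
    intro i j hij
    apply Fin.ext
    refine pow_inj hp hσ h1 i.2 j.2 ?_
    ext a
    exact congrArg (fun g : F →* F => g a) hij
  have hli := (linearIndependent_monoidHom F F).comp χ hχ
  rw [Fintype.linearIndependent_iff] at hli
  have h0 := hli (fun i => f (φ^[(i : ℕ)] v)) (by
    funext a
    rw [Finset.sum_apply]
    have h2 := hsum a
    rw [← Fin.sum_univ_eq_sum_range (fun i => (σ ^ i) a * f (φ^[i] v)) p] at h2
    rw [Pi.zero_apply, ← h2]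
    refine Finset.sum_congr rfl fun i _ => ?_
    rw [Pi.smul_apply, smul_eq_mul, mul_comm]
    rfl) ⟨0, hp.pos⟩
  exact h0

end Span

section Norm

variable {F : Type*} [Field F]

/-- the norm of `t` -/
def nrm (σ : F ≃+* F) (p : ℕ) (t : F) : F := ∏ i ∈ Finset.range p, (σ ^ i) t

theorem nrm_mul (σ : F ≃+* F) (p : ℕ) (s t : F) : nrm σ p (s * t) = nrm σ p s * nrm σ p t := by
  rw [nrm, nrm, nrm, ← Finset.prod_mul_distrib]
  exact Finset.prod_congr rfl fun i _ => map_mul _ _ _

theorem nrm_one (σ : F ≃+* F) (p : ℕ) : nrm σ p 1 = 1 := by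
  rw [nrm]
  exact Finset.prod_eq_one fun i _ => map_one _

theorem nrm_sigma {σ : F ≃+* F} {p : ℕ} (hσ : σ ^ p = 1) (t : F) : σ (nrm σ p t) = nrm σ p t := by
  rw [nrm, map_prod]
  have h1 : ∀ i, σ ((σ ^ i) t) = (σ ^ (i + 1)) t := fun i => by rw [pow_succ']; rfl
  simp only [h1]
  by_cases ht : t = 0
  · subst ht; simp
  have h2 : (∏ i ∈ Finset.range p, (σ ^ (i + 1)) t) * (σ ^ 0) t = ∏ i ∈ Finset.range (p + 1), (σ ^ i) t :=
    (Finset.prod_range_succ' (fun i => (σ ^ i) t) p).symm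
  rw [Finset.prod_range_succ, hσ] at h2
  exact mul_right_cancel₀ (b := t) ht h2

theorem nrm_fixed {σ : F ≃+* F} {p : ℕ} {t : F} (h : σ t = t) : nrm σ p t = t ^ p := by
  have h1 : ∀ i, (σ ^ i) t = t := by
    intro i
    induction i with
    | zero => rfl
    | succ i ih =>
      rw [pow_succ']
      change σ ((σ ^ i) t) = t
      rw [ih, h]
  rw [nrm]
  simp only [h1, Finset.prod_const, Finset.card_range]

theorem nrm_pow (σ : F ≃+* F) (p : ℕ) (t : F) (k : ℕ) : nrm σ p (t ^ k) = nrm σ p t ^ k := by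
  induction k with
  | zero => rw [pow_zero, pow_zero, nrm_one]
  | succ k ih => rw [pow_succ, nrm_mul, ih, pow_succ]

theorem nrm_ne_zero (σ : F ≃+* F) (p : ℕ) {t : F} (ht : t ≠ 0) : nrm σ p t ≠ 0 := by
  rw [nrm, Finset.prod_ne_zero_iff]
  intro i _
  exact (map_ne_zero_iff _ (σ ^ i).injective).mpr ht

theorem iter_mul {σ : F ≃+* F} (t : F) (k : ℕ) (v : F) :
    (fun v => t * σ v)^[k] v = nrm σ k t * (σ ^ k) v := by
  induction k with
  | zero => simp [nrm]
  | succ k ih =>
    rw [Function.iterate_succ_apply', ih, map_mul, ← mul_assoc, pow_succ']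
    congr 1
    rw [nrm, nrm, map_prod, Finset.prod_range_succ', mul_comm]
    congr 1
    refine Finset.prod_congr rfl fun x _ => ?_
    rw [pow_succ']
    rfl

/-- **Hilbert 90.** -/
theorem exists_units {σ : F ≃+* F} {p : ℕ} (hp : p.Prime) (hσ : σ ^ p = 1) (h1 : σ ≠ 1) {t : F}
    (ht : nrm σ p t = 1) : ∃ y : F, y ≠ 0 ∧ t * σ y = y := by
  let φ : F →+ F := { toFun := fun v => t * σ v, map_zero' := by simp, map_add' := fun a b => by rw [map_add, mul_add] }
  have hφ : ∀ (a : F) (v : F), φ (a • v) = σ a • φ v := fun a v => by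
    change t * σ (a * v) = σ a * (t * σ v)
    rw [map_mul]; ring
  have hφp : ∀ v, φ^[p] v = v := fun v => by
    have h2 : (φ : F → F)^[p] v = nrm σ p t * (σ ^ p) v := iter_mul t p v
    rw [h2, ht, hσ, one_mul]; rfl
  have h2 := span_fixed hp hσ h1 hφ hφp
  by_contra hcon
  push Not at hcon
  have h3 : {v : F | φ v = v} ⊆ {0} := by
    intro v hv
    by_contra hv0
    exact hcon v hv0 hv
  have h4 : Submodule.span F {v : F | φ v = v} ≤ ⊥ := by
    rw [Submodule.span_le]
    intro v hv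
    exact h3 hv
  rw [h2] at h4
  have h5 : (1 : F) ∈ (⊥ : Submodule F F) := h4 trivial
  exact one_ne_zero ((Submodule.mem_bot F).mp h5)

variable [Finite F]

/-- The norm onto the fixed field is surjective. -/
theorem exists_norm {σ : F ≃+* F} {p : ℕ} (hp : p.Prime) (hσ : σ ^ p = 1) (h1 : σ ≠ 1) {c : F} (hc0 : c ≠ 0)
    (hc : σ c = c) : ∃ t : F, t ≠ 0 ∧ nrm σ p t = c := by
  let N : Fˣ →* Fˣ :=
    { toFun := fun t => Units.mk0 (nrm σ p t) (nrm_ne_zero σ p t.ne_zero)
      map_one' := by apply Units.ext; exact nrm_one σ p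
      map_mul' := fun a b => by apply Units.ext; exact nrm_mul σ p a b }
  let f : Fˣ →* Fˣ := (MonoidHom.id Fˣ) / (Units.map ((σ : F ≃+* F) : F →* F))
  have hf : ∀ t : Fˣ, f t = t / Units.map ((σ : F ≃+* F) : F →* F) t := fun _ => rfl
  have hfk : ∀ t : Fˣ, t ∈ f.ker ↔ σ t = t := by
    intro t
    rw [MonoidHom.mem_ker, hf, div_eq_one, Units.ext_iff]
    exact eq_comm
  have hrange : f.range = N.ker := by
    ext t
    constructor
    · rintro ⟨y, rfl⟩
      rw [MonoidHom.mem_ker]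
      have h2 : N (f y) * N (Units.map ((σ : F ≃+* F) : F →* F) y) = N y := by
        rw [← map_mul, hf, div_mul_cancel]
      have h3 : N (Units.map ((σ : F ≃+* F) : F →* F) y) = N y := by
        apply Units.ext
        change nrm σ p (σ y) = nrm σ p y
        rw [← nrm_sigma hσ (y : F), nrm, nrm, map_prod]
        refine Finset.prod_congr rfl fun i _ => ?_
        change (σ ^ i * σ) (y : F) = (σ * σ ^ i) (y : F)
        rw [← pow_succ, ← pow_succ']
      rw [h3] at h2
      exact mul_eq_right.mp h2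
    · intro ht
      have h2 : nrm σ p (t : F) = 1 := congrArg Units.val (MonoidHom.mem_ker.mp ht)
      obtain ⟨y, hy0, hy⟩ := exists_units hp hσ h1 h2
      refine ⟨Units.mk0 y hy0, ?_⟩
      rw [hf, div_eq_iff_eq_mul]
      apply Units.ext
      exact hy.symm
  have hcard : Nat.card N.range = Nat.card f.ker := by
    have h2 : Nat.card N.ker * Nat.card N.range = Nat.card Fˣ := by
      rw [← Subgroup.index_ker]
      exact N.ker.card_mul_index
    have h3 : Nat.card f.ker * Nat.card f.range = Nat.card Fˣ := by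
      rw [← Subgroup.index_ker]
      exact f.ker.card_mul_index
    rw [hrange, mul_comm, ← h2] at h3
    exact (Nat.eq_of_mul_eq_mul_left Nat.card_pos h3).symm
  have hle : N.range ≤ f.ker := by
    rintro _ ⟨t, rfl⟩
    rw [hfk]
    exact nrm_sigma hσ _
  have heq : N.range = f.ker := Subgroup.eq_of_le_of_card_ge hle (by rw [hcard])
  have h2 : Units.mk0 c hc0 ∈ N.range := by
    rw [heq, hfk]
    exact hc
  obtain ⟨t, ht⟩ := h2
  exact ⟨t, t.ne_zero, congrArg Units.val ht⟩

/-- The norm on the norm one elements of a commuting involution. -/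
theorem exists_norm_unitary {σ τ : F ≃+* F} {p : ℕ} (hp : p.Prime) (hp2 : p ≠ 2) (hσ : σ ^ p = 1) (h1 : σ ≠ 1)
    (hcomm : ∀ a, σ (τ a) = τ (σ a)) (hτ : ∀ a, τ (τ a) = a) {c : F} (hc : σ c = c) (hct : c * τ c = 1) :
    ∃ t : F, t * τ t = 1 ∧ nrm σ p t = c := by
  have hc0 : c ≠ 0 := left_ne_zero_of_mul_eq_one hct
  obtain ⟨t, ht0, ht⟩ := exists_norm hp hσ h1 hc0 hc
  have hτ0 : τ t ≠ 0 := (map_ne_zero_iff _ τ.injective).mpr ht0
  have hpowcomm : ∀ (i : ℕ) a, (σ ^ i) (τ a) = τ ((σ ^ i) a) := by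
    intro i
    induction i with
    | zero => intro a; rfl
    | succ i ih =>
      intro a
      rw [pow_succ']
      change σ ((σ ^ i) (τ a)) = τ (σ ((σ ^ i) a))
      rw [ih, hcomm]
  have hnτ : ∀ a, nrm σ p (τ a) = τ (nrm σ p a) := by
    intro a
    rw [nrm, nrm, map_prod]
    exact Finset.prod_congr rfl fun i _ => hpowcomm i a
  have hninv : ∀ {a : F}, a ≠ 0 → nrm σ p a⁻¹ = (nrm σ p a)⁻¹ := by
    intro a ha
    apply eq_inv_of_mul_eq_one_left
    rw [← nrm_mul, inv_mul_cancel₀ ha, nrm_one]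
  -- `u = t / τ t` has norm `c ^ 2`
  set u : F := t⁻¹ * τ t with hu
  have hu0 : u ≠ 0 := mul_ne_zero (inv_ne_zero ht0) hτ0
  have huτ : u * τ u = 1 := by
    rw [hu, map_mul, map_inv₀, hτ]
    field_simp
  have hun : nrm σ p u = (c⁻¹) ^ 2 := by
    rw [hu, nrm_mul, hninv ht0, ht, hnτ, ht, pow_two]
    congr 1
    exact eq_inv_of_mul_eq_one_right hct
  obtain ⟨k, hk⟩ : ∃ k, p = 2 * k + 1 := (hp.odd_of_ne_two hp2)
  refine ⟨c * u ^ k, ?_, ?_⟩
  · rw [map_mul, map_pow]
    calc c * u ^ k * (τ c * τ u ^ k) = (c * τ c) * (u * τ u) ^ k := by rw [mul_pow]; ring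
      _ = 1 := by rw [hct, huτ, one_pow, one_mul]
  · rw [nrm_mul, nrm_pow, hun, nrm_fixed hc, ← pow_mul, inv_pow]
    conv_lhs => rw [hk, pow_succ]
    field_simp

end Norm

end Cfsg.Agent.BpLin
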